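import Cfsg.Agent.Lib.Spor.J4.Data
import Cfsg.Agent.Lib.Spor.J4A.Defs
import Cfsg.Agent.Lib.Spor.J4.Top

set_option autoImplicit false
set_option maxRecDepth 100000
set_option Elab.async false
set_option exponentiation.threshold 100000

namespace Cfsg.Agent.Spor.J4
open Cfsg.Agent.PG Cfsg.Agent.Spor Cfsg.Agent.Spor.J4A

theorem mcl12_0 : chkR P L 0 112 (Cfsg.Agent.Spor.J4A.cl12_l) = true := by decide +kernel

theorem mcl11_0 : chkR P L 0 112 (Cfsg.Agent.Spor.J4A.cl11_l) = true := by decide +kernel

theorem mcl10_0 : chkR P L 0 112 (Cfsg.Agent.Spor.J4A.cl10_l) = true := by decide +kernel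

theorem mcl9_0 : chkR P L 0 112 (Cfsg.Agent.Spor.J4A.cl9_l) = true := by decide +kernel

theorem mcl8_0 : chkR P L 0 112 (Cfsg.Agent.Spor.J4A.cl8_l) = true := by decide +kernel

theorem mcl7_0 : chkR P L 0 112 (Cfsg.Agent.Spor.J4A.cl7_l) = true := by decide +kernel

theorem mcl6_0 : chkR P L 0 112 (Cfsg.Agent.Spor.J4A.cl6_l) = true := by decide +kernel

theorem mcl5_0 : chkR P L 0 112 (Cfsg.Agent.Spor.J4A.cl5_l) = true := by decide +kernel

theorem mcl4_0 : chkR P L 0 112 (Cfsg.Agent.Spor.J4A.cl4_l) = true := by decide +kernel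

theorem mcl3_0 : chkR P L 0 112 ((Cfsg.Agent.Spor.J4A.cl3_l).take 72) = true := by decide +kernel

theorem mcl3_1 : chkR P L 0 112 (((Cfsg.Agent.Spor.J4A.cl3_l).drop 72).take 55) = true := by decide +kernel

theorem mcl3_2 : chkR P L 0 112 (((Cfsg.Agent.Spor.J4A.cl3_l).drop 72).drop 55) = true := by decide +kernel

theorem mcl2_0 : chkR P L 0 112 ((Cfsg.Agent.Spor.J4A.cl2_l).take 52) = true := by decide +kernel

theorem mcl2_1 : chkR P L 0 112 ((Cfsg.Agent.Spor.J4A.cl2_l).drop 52) = true := by decide +kernel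

theorem mcl1_0 : chkR P L 0 112 ((Cfsg.Agent.Spor.J4A.cl1_l).take 42) = true := by decide +kernel

theorem mcl1_1 : chkR P L 0 112 ((Cfsg.Agent.Spor.J4A.cl1_l).drop 42) = true := by decide +kernel

theorem mcl0_0 : chkR P L 0 112 ((Cfsg.Agent.Spor.J4A.cl0_l).take 40) = true := by decide +kernel

theorem mcl0_1 : chkR P L 0 112 (((Cfsg.Agent.Spor.J4A.cl0_l).drop 40).take 17) = true := by decide +kernel

theorem mcl0_2 : chkR P L 0 112 (((Cfsg.Agent.Spor.J4A.cl0_l).drop 40).drop 17) = true := by decide +kernel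

theorem clT_0 : chkR P L 0 112 ((dcClaims 34 36 cjT repsT).take 42) = true := by decide +kernel

theorem clT_1 : chkR P L 0 112 (((dcClaims 34 36 cjT repsT).drop 42).take 17) = true := by decide +kernel

theorem clT_2 : chkR P L 0 112 ((((dcClaims 34 36 cjT repsT).drop 42).drop 17).take 15) = true := by decide +kernel

theorem clT_3 : chkR P L 0 112 (((((dcClaims 34 36 cjT repsT).drop 42).drop 17).drop 15).take 16) = true := by decide +kernel

theorem clT_4 : chkR P L 0 112 ((((((dcClaims 34 36 cjT repsT).drop 42).drop 17).drop 15).drop 16).take 17) = true := by decide +kernel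

theorem clT_5 : chkR P L 0 112 (((((((dcClaims 34 36 cjT repsT).drop 42).drop 17).drop 15).drop 16).drop 17).take 14) = true := by decide +kernel

theorem clT_6 : chkR P L 0 112 ((((((((dcClaims 34 36 cjT repsT).drop 42).drop 17).drop 15).drop 16).drop 17).drop 14).take 15) = true := by decide +kernel

theorem clT_7 : chkR P L 0 112 ((((((((dcClaims 34 36 cjT repsT).drop 42).drop 17).drop 15).drop 16).drop 17).drop 14).drop 15) = true := by decide +kernel

theorem mxc_0 : chkR P L 0 112 (mxClaims mxT) = true := by decide +kernel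

theorem gn_0 : chkR P L 0 112 (genClaims gn_g) = true := by decide +kernel

theorem pc11p_0 : chkR P L 0 112 (pcPos 11 9 pc11) = true := by decide +kernel

theorem pc11n_0 : chkN P L (pcNeg 9 pc11) = true := by decide +kernel

theorem cme_0 : chkR P L 0 112 (cmLet [gw 33] 35 49) = true := by decide +kernel

theorem core_0 : chkN P L ((coreClaims 34 [0x0284] [0x028c] gsT).zip core_p) = true := by decide +kernel

theorem es_0 : chkR P L 0 112 (esClaims 12 6) = true := by decide +kernel

theorem nzq_0 : chkR P L 0 112 ((nzClaims 25 12 nzq_r).take 54) = true := by decide +kernel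

theorem nzq_1 : chkR P L 0 112 ((nzClaims 25 12 nzq_r).drop 54) = true := by decide +kernel

theorem nzn_0 : chkR P L 0 112 ((nzClaims 26 12 nzn_r).take 60) = true := by decide +kernel

theorem nzn_1 : chkR P L 0 112 ((nzClaims 26 12 nzn_r).drop 60) = true := by decide +kernel

theorem md5_0 : chkR P L 0 112 (modClaims J4B.cl5_l mdw5) = true := by decide +kernel

theorem md4_0 : chkR P L 0 112 (modClaims J4B.cl4_l mdw4) = true := by decide +kernel

end Cfsg.Agent.Spor.J4
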